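import Cfsg.Agent.Lib.SzSolubilizer.Pairs
import Mathlib

/-!
Transitive actions of the Suzuki group with fixity two.
Owner: helper50.
-/

set_option autoImplicit false
set_option linter.unusedSectionVars false
set_option linter.style.haveILetI false

namespace Cfsg.Agent.Lib.SzFixity

open Cfsg.Agent.Lib.LieTwisted.Suzuki Cfsg.Agent.Lib.SzTori Cfsg.Agent.Lib.SzSolubilizer
  Cfsg.Agent.Lib.SzElements.Basic

variable {F : Type*} [Field F] [Fintype F] {m : ℕ}

local notation "Pt" => Projectivization F (Fin 4 → F)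
local notation "∞'" => (opt m (none : Option (F × F)))

/-- The centraliser orbit of a point fixed by `g` consists of points fixed by `g`. -/
theorem relIndex_le {G Ω : Type*} [Group G] [Finite G] [MulAction G Ω] [Finite Ω]
    (hfix : ∀ g : G, g ≠ 1 → Nat.card (MulAction.fixedBy Ω g) ≤ 2) {α : Ω} {g : G} (hg : g • α = α)
    (hg1 : g ≠ 1) (K : Subgroup G) (hK : ∀ c ∈ K, c⁻¹ * g * c ∈ MulAction.stabilizer G α) :
    (MulAction.stabilizer G α).relIndex K ≤ 2 := by
  refine le_trans ?_ (hfix g hg1)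
  rw [Subgroup.relIndex, show (MulAction.stabilizer G α).subgroupOf K = MulAction.stabilizer K α by
    ext c; simp [Subgroup.mem_subgroupOf, Subgroup.smul_def]]
  rw [MulAction.index_stabilizer, ← Nat.card_coe_set_eq]
  refine Nat.card_le_card_of_injective (fun x => ⟨x.1, ?_⟩) (fun a b e => Subtype.ext (congrArg Subtype.val e :))
  obtain ⟨c, hc⟩ := x.2
  rw [MulAction.mem_fixedBy, ← hc]
  show g • ((c : G) • α) = (c : G) • α
  have := hK c c.2
  rw [MulAction.mem_stabilizer_iff, mul_smul, mul_smul, inv_smul_eq_iff] at this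
  exact this

variable (h : IsSzField F m) (hm : 1 ≤ m)

include h hm

theorem cen_odd {g : (Cfsg.Sz F m)} (h4 : g ^ 4 ≠ 1) :
    Odd (Nat.card (Subgroup.centralizer ({g} : Set (Cfsg.Sz F m)))) ∧
      (∀ c ∈ Subgroup.centralizer ({g} : Set (Cfsg.Sz F m)), c ≠ 1 →
        Subgroup.centralizer ({c} : Set (Cfsg.Sz F m)) = Subgroup.centralizer ({g} : Set (Cfsg.Sz F m))) ∧
      3 ≤ Nat.card (Subgroup.centralizer ({g} : Set (Cfsg.Sz F m))) ∧
      (∀ w ∈ Subgroup.normalizer (Subgroup.centralizer ({g} : Set (Cfsg.Sz F m)) : Set (Cfsg.Sz F m)),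
        w ^ 4 ∈ Subgroup.centralizer ({g} : Set (Cfsg.Sz F m))) := by
  obtain ⟨hq, hev⟩ := card_facts h hm
  by_cases hf : HasFix g
  · obtain ⟨k, hk | ⟨e, he, hk⟩⟩ := fix_cases h hm hf
    · refine absurd ?_ h4
      have h5 := pow_four_of_mem h hm hk
      have h6 := conj_pow (a := k⁻¹) (b := g) (i := 4)
      rw [inv_inv] at h6
      rw [h6] at h5
      simpa [mul_assoc] using congrArg (fun w => k * w * k⁻¹) h5
    have hg : g = k * dS h e * k⁻¹ := by rw [← hk]; group
    have hC : Subgroup.centralizer ({g} : Set (Cfsg.Sz F m)) = (dS h).range.map (MulAut.conj k).toMonoidHom := by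
      rw [hg, centralizer_conj, centralizer_dS h hm he]
    have hcard : Nat.card (Subgroup.centralizer ({g} : Set (Cfsg.Sz F m))) = Fintype.card F - 1 := by
      rw [hC, Subgroup.card_map_of_injective (MulAut.conj k).injective, card_range_dS h hm]
    refine ⟨?_, ?_, ?_, ?_⟩
    · rw [hcard]; obtain ⟨j, hj⟩ := hev; exact ⟨j - 1, by omega⟩
    · rw [hC]
      rintro _ ⟨_, ⟨f, rfl⟩, rfl⟩ hc1
      have hf1 : f ≠ 1 := fun z => hc1 (by rw [z, map_one, map_one])
      rw [MulEquiv.coe_toMonoidHom, MulAut.conj_apply, centralizer_conj, centralizer_dS h hm hf1]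
    · rw [hcard]; obtain ⟨j, hj⟩ := hev; omega
    · intro w hw
      rw [hC, ← Subgroup.map_equiv_normalizer_eq] at hw
      obtain ⟨v, hv, rfl⟩ := hw
      rw [hC]
      refine ⟨v ^ 4, ?_, map_pow _ _ _⟩
      obtain ⟨e0, he0⟩ := exists_ne_one h hm
      obtain ⟨f', hf'⟩ := (Subgroup.mem_normalizer_iff.1 hv (dS h e0)).1 ⟨e0, rfl⟩
      rcases conj_dS_cases h hm he0 hf'.symm with ⟨a, rfl, -⟩ | ⟨a, rfl, -⟩
      · exact pow_mem (show dS h a ∈ (dS h).range from ⟨a, rfl⟩) 4
      · have h2 : (wS h * dS h a) * (wS h * dS h a) = 1 := by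
          nth_rewrite 1 [h.wS_mul_dS]
          rw [mul_assoc, ← mul_assoc (wS h), h.wS_mul_self, one_mul, ← map_mul, inv_mul_cancel, map_one]
        rw [show (wS h * dS h a) ^ 4 = 1 by simp [pow_succ, mul_assoc] at h2 ⊢; simp [h2]]
        exact one_mem _
  · have hE := inE_of_not_fix h hm hf
    refine ⟨?_, fun c hc hc1 => torus_eq h hm hE hc hc1, le_trans (by norm_num) (five_le h hm hE),
      fun w hw => pow_four_mem_cen h hm hE hw⟩
    rw [← Nat.not_even_iff_odd, even_iff_two_dvd]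
    intro hd
    have := Nat.eq_one_of_dvd_coprimes (card_arith h hm).2.1 (hd.trans (torus_card_dvd h hm hE))
      (show 2 ∣ 4 by norm_num)
    omega

section

variable {Ω : Type*} [Finite Ω] [MulAction (Cfsg.Sz F m) Ω]
  (hfix : ∀ g : (Cfsg.Sz F m), g ≠ 1 → Nat.card (MulAction.fixedBy Ω g) ≤ 2)

include hfix

theorem cen_le {α : Ω} {g : (Cfsg.Sz F m)} (hg : g • α = α) (h4 : g ^ 4 ≠ 1) :
    Subgroup.centralizer ({g} : Set (Cfsg.Sz F m)) ≤ MulAction.stabilizer (Cfsg.Sz F m) α := by
  have hg1 : g ≠ 1 := fun z => h4 (by rw [z, one_pow])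
  obtain ⟨hodd, -, -, -⟩ := cen_odd h hm h4
  have hle := relIndex_le hfix hg hg1 (Subgroup.centralizer ({g} : Set (Cfsg.Sz F m))) (fun c hc => by
    rw [mul_assoc, mem_centralizer_iff'.1 hc, inv_mul_cancel_left]; exact hg)
  have hdvd : (MulAction.stabilizer (Cfsg.Sz F m) α).relIndex (Subgroup.centralizer ({g} : Set (Cfsg.Sz F m))) ∣
      Nat.card (Subgroup.centralizer ({g} : Set (Cfsg.Sz F m))) := Subgroup.index_dvd_card _
  rw [← Subgroup.relIndex_eq_one]
  have hpos := Nat.pos_of_dvd_of_pos hdvd Nat.card_pos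
  rcases (show (MulAction.stabilizer (Cfsg.Sz F m) α).relIndex (Subgroup.centralizer ({g} : Set (Cfsg.Sz F m))) = 1 ∨
      (MulAction.stabilizer (Cfsg.Sz F m) α).relIndex (Subgroup.centralizer ({g} : Set (Cfsg.Sz F m))) = 2 by omega) with e | e
  · exact e
  · rw [e] at hdvd
    obtain ⟨j, hj⟩ := hodd
    omega

/-- A stabiliser containing an involution fixing `∞` is the Borel subgroup. -/
theorem even_case {α : Ω} (hne : MulAction.stabilizer (Cfsg.Sz F m) α ≠ ⊤) {z : (Cfsg.Sz F m)} (hzα : z • α = α) (hz2 : z ^ 2 = 1)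
    (hz1 : z ≠ 1) (hzf : z • ∞' = ∞') :
    MulAction.stabilizer (Cfsg.Sz F m) α = MulAction.stabilizer (Cfsg.Sz F m) ∞' := by
  classical
  haveI : Fintype (Cfsg.Sz F m) := Fintype.ofFinite _
  haveI := h.charTwo
  set H := MulAction.stabilizer (Cfsg.Sz F m) α with hH
  obtain ⟨hq, hev⟩ := card_facts h hm
  obtain ⟨b0, rfl⟩ := inv_stab_eq h hm hz2 hzf
  have hU : H.relIndex (unip h) ≤ 2 := relIndex_le hfix hzα hz1 _ (fun c hc => by
    obtain ⟨a, b, rfl⟩ := hc
    rw [mul_assoc, h.uS_center_comm, inv_mul_cancel_left]; exact hzα)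
  have hsq : ∀ u ∈ unip h, u ^ 2 ∈ H := by
    intro u hu
    have h2 : (H.subgroupOf (unip h)).index = 1 ∨ (H.subgroupOf (unip h)).index = 2 := by
      have : (H.subgroupOf (unip h)).index ≠ 0 := Subgroup.index_ne_zero_of_finite
      have : (H.subgroupOf (unip h)).index ≤ 2 := hU
      omega
    rcases h2 with e | e
    · have : (⟨u, hu⟩ : unip h) ∈ H.subgroupOf (unip h) := by
        rw [Subgroup.index_eq_one.1 e]; exact Subgroup.mem_top _
      exact H.pow_mem this 2
    · exact Subgroup.sq_mem_of_index_two e (⟨u, hu⟩ : unip h)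
  have hZ : ∀ c, uS h 0 c ∈ H := fun c => by
    obtain ⟨a, ha⟩ := h.sg_mul_self_surj c
    rw [← ha, ← h.uS_sq a 0]
    exact hsq _ (h.uS_mem a 0)
  set V := H ⊓ unip h with hV
  have hVcard : Fintype.card F ^ 2 ≤ 2 * Nat.card V := by
    have h1 := (H.subgroupOf (unip h)).card_mul_index
    rw [h.card_unip] at h1
    have h2 : Nat.card (H.subgroupOf (unip h)) = Nat.card V := by
      rw [hV, ← Subgroup.inf_subgroupOf_right]
      exact Nat.card_congr (Subgroup.subgroupOfEquivOfLe inf_le_right).toEquiv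
    rw [h2] at h1
    rw [← h1, mul_comm 2]
    exact Nat.mul_le_mul_left _ hU
  have hVdvd : Nat.card V ∣ Fintype.card F ^ 2 := by
    rw [← h.card_unip]; exact Subgroup.card_dvd_of_le inf_le_right
  have hVf : ∀ v ∈ V, v • ∞' = ∞' := fun v hv => by
    obtain ⟨a, b, rfl⟩ := (Subgroup.mem_inf.1 hv).2; exact h.uS_smul_none a b
  -- the stabiliser fixes `∞`
  have hle : H ≤ MulAction.stabilizer (Cfsg.Sz F m) ∞' := by
    intro t ht
    by_contra hmove
    rw [MulAction.mem_stabilizer_iff] at hmove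
    obtain ⟨P, hP⟩ := h.exists_opt_eq_smul hm t
    let O : Set (Option (F × F)) := {p | ∃ g ∈ H, g • ∞' = opt m p}
    have hO0 : (none : Option (F × F)) ∈ O := ⟨1, one_mem _, one_smul _ _⟩
    -- the orbit has size dividing the order
    have hOcard : Nat.card O ∣ Nat.card (Cfsg.Sz F m) := by
      have e1 : Nat.card O = Nat.card (MulAction.orbit H ∞') := by
        refine Nat.card_eq_of_bijective (fun p => ⟨opt m p.1, by
          obtain ⟨g, hg, e⟩ := p.2; exact ⟨⟨g, hg⟩, e⟩⟩) ⟨fun a b e => Subtype.ext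
            (opt_injective (congrArg Subtype.val e :)), ?_⟩
        rintro ⟨_, ⟨g, hg⟩, rfl⟩
        obtain ⟨p, hp⟩ := h.exists_opt_eq_smul hm g
        exact ⟨⟨p, g, hg, hp⟩, Subtype.ext hp.symm⟩
      rw [e1, Nat.card_coe_set_eq, ← MulAction.index_stabilizer]
      exact (Subgroup.index_dvd_card _).trans (Subgroup.card_subgroup_dvd_card H)
    -- `V` acts semiregularly on the finite points of the orbit
    set O' : Finset (Option (F × F)) := (Finset.univ.filter fun p => p ∈ O).erase none with hO'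
    have hO'card : Nat.card O = O'.card + 1 := by
      rw [hO', Finset.card_erase_add_one (by simpa using hO0), Nat.card_eq_fintype_card, ← Set.toFinset_card]
      congr 1; ext p; simp
    have hdvd : Nat.card V ∣ O'.card := by
      let act : V → {p // p ∈ O'} → Option (F × F) := fun v p => (exists_opt h hm (v : (Cfsg.Sz F m)) p.1).choose
      have hact : ∀ (v : V) (p : {p // p ∈ O'}), (v : (Cfsg.Sz F m)) • opt m p.1 = opt m (act v p) := fun v p => (exists_opt h hm (v : (Cfsg.Sz F m)) p.1).choose_spec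
      have hmem : ∀ v p, act v p ∈ O' := by
        intro v p
        obtain ⟨hp1, hp2⟩ := Finset.mem_erase.1 p.2
        obtain ⟨g, hg, e⟩ := (Finset.mem_filter.1 hp2).2
        refine Finset.mem_erase.2 ⟨fun z => hp1 (opt_injective (m := m) ?_), Finset.mem_filter.2 ⟨Finset.mem_univ _,
          (v : (Cfsg.Sz F m)) * g, mul_mem (Subgroup.mem_inf.1 v.2).1 hg, by rw [mul_smul, e, hact]⟩⟩
        have := hact v p
        rw [z, ← hVf v v.2] at this
        exact MulAction.injective _ this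
      letI : MulAction V {p // p ∈ O'} :=
        { smul := fun v p => ⟨act v p, hmem v p⟩
          one_smul := fun p => Subtype.ext (opt_injective (m := m) (by
            show opt m (act 1 p) = opt m p.1
            rw [← hact]; exact one_smul _ _))
          mul_smul := fun a b p => Subtype.ext (opt_injective (m := m) (by
            show opt m (act (a * b) p) = opt m (act a ⟨act b p, hmem b p⟩)
            rw [← hact, ← hact, ← hact]; exact mul_smul _ _ _)) }
      have hfree : ∀ p : {p // p ∈ O'}, MulAction.stabilizer V p = ⊥ := by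
        intro p
        rw [eq_bot_iff]
        intro v hv
        rw [MulAction.mem_stabilizer_iff] at hv
        have he : act v p = p.1 := congrArg Subtype.val hv
        obtain ⟨a, b, hab⟩ := (Subgroup.mem_inf.1 v.2).2
        rw [Subgroup.mem_bot]
        by_contra hv1
        refine (Finset.mem_erase.1 p.2).1 (fix_point h (a := a) (b := b)
          (fun z => hv1 (Subtype.ext (by rw [hab, z.1, z.2, h.uS_zero]; rfl))) ?_)
        rw [← hab, hact, he]
      have hequiv := Nat.card_congr (MulAction.selfEquivSigmaOrbits V {p // p ∈ O'})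
      haveI : Fintype (MulAction.orbitRel.Quotient V {p // p ∈ O'}) := Fintype.ofFinite _
      rw [Nat.card_eq_fintype_card, Fintype.card_coe, Nat.card_sigma] at hequiv
      rw [hequiv]
      refine Finset.dvd_sum fun ω _ => dvd_of_eq ?_
      rw [Nat.card_coe_set_eq, ← MulAction.index_stabilizer, hfree, Subgroup.index_bot]
    have hpos : 0 < O'.card := Finset.card_pos.2 ⟨P, Finset.mem_erase.2 ⟨fun z => hmove (by rw [hP, z]),
      Finset.mem_filter.2 ⟨Finset.mem_univ _, t, ht, hP⟩⟩⟩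
    have hbound : O'.card ≤ Fintype.card F ^ 2 := by
      refine (Finset.card_le_card (Finset.erase_subset_erase _ (Finset.subset_univ _))).trans (le_of_eq ?_)
      rw [Finset.card_erase_of_mem (Finset.mem_univ _), Finset.card_univ, Fintype.card_option, Fintype.card_prod, sq]
      rfl
    rcases (show O'.card = Fintype.card F ^ 2 ∨ 2 * O'.card = Fintype.card F ^ 2 by
      obtain ⟨j, hj⟩ := hdvd
      obtain ⟨i, hi⟩ := hVdvd
      rw [hi] at hVcard hbound ⊢
      have hVpos : 0 < Nat.card V := Nat.card_pos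
      have i2 : i ≤ 2 := Nat.le_of_mul_le_mul_left (by linarith) hVpos
      have ji : j ≤ i := Nat.le_of_mul_le_mul_left (hj ▸ hbound) hVpos
      have j0 : 0 < j := Nat.pos_of_mul_pos_left (hj ▸ hpos)
      have hi0 : i ≠ 0 := by omega
      interval_cases i <;> interval_cases j <;> omega) with hfull | hhalf
    · -- the whole ovoid: every involution lies in `H`
      have hall : ∀ p, p ∈ O := fun p => by
        by_cases hp : p = none
        · rw [hp]; exact hO0
        · have : O' = (Finset.univ : Finset (Option (F × F))).erase none :=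
            Finset.eq_of_subset_of_card_le (Finset.erase_subset_erase _ (Finset.subset_univ _)) (by
              rw [Finset.card_erase_of_mem (Finset.mem_univ _), Finset.card_univ, Fintype.card_option,
                Fintype.card_prod, hfull, sq]; rfl)
          have hp' : p ∈ O' := by rw [this]; simp [hp]
          exact (Finset.mem_filter.1 (Finset.mem_erase.1 hp').2).2
      have hinv : ∀ s : (Cfsg.Sz F m), s ^ 2 = 1 → s ∈ H := by
        intro s hs
        by_cases hs1 : s = 1
        · rw [hs1]; exact one_mem _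
        have hss : s * s = 1 := by rw [← sq, hs]
        obtain ⟨p, hp⟩ := exists_fix_of_four h hm (show s ^ 4 = 1 by simp [pow_succ, mul_assoc, hss]) hs1
        obtain ⟨g, hg, hgp⟩ := hall p
        obtain ⟨c, hc⟩ := inv_stab_eq h hm (s := g⁻¹ * s * g)
          (by rw [sq]; calc g⁻¹ * s * g * (g⁻¹ * s * g) = g⁻¹ * (s * s) * g := by group
                _ = 1 := by rw [hss, mul_one, inv_mul_cancel])
          (by rw [mul_smul, mul_smul, hgp, hp, ← hgp, inv_smul_smul])
        rw [show s = g * uS h 0 c * g⁻¹ by rw [← hc]; group]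
        exact mul_mem (mul_mem hg (hZ c)) (inv_mem hg)
      haveI := h.isSimple hm
      set N := Subgroup.closure {s : (Cfsg.Sz F m) | s ^ 2 = 1} with hN
      have hnN : N.Normal := ⟨fun n hn g => by
        refine (Subgroup.closure_le ((N.comap (MulAut.conj g).toMonoidHom))).2 ?_ hn
        intro s hs
        refine Subgroup.subset_closure ?_
        show (g * s * g⁻¹) ^ 2 = 1
        rw [conj_pow, Set.mem_setOf_eq.mp hs, mul_one, mul_inv_cancel]⟩
      rcases hnN.eq_bot_or_eq_top with e | e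
      · exact hz1 (by
          have : uS h 0 b0 ∈ N := Subgroup.subset_closure hz2
          rwa [e, Subgroup.mem_bot] at this)
      · exact hne (top_le_iff.1 (e ▸ (Subgroup.closure_le H).2 hinv))
    · have hd : Nat.card O ∣ Fintype.card F ^ 2 * (Fintype.card F ^ 2 + 1) * (Fintype.card F - 1) :=
        h.card_group hm ▸ hOcard
      obtain ⟨k, hk⟩ : 4 ∣ Fintype.card F := by
        rw [h.card]; exact dvd_trans (by norm_num) (pow_dvd_pow 2 (show 2 ≤ 2 * m + 1 by omega))
      rw [hO'card] at hd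
      have h2 : (2 * (O'.card + 1)) = Fintype.card F ^ 2 + 2 := by omega
      have ho : Odd (O'.card + 1) := ⟨4 * k ^ 2, by rw [hk] at hhalf; linarith⟩
      have c1 : (O'.card + 1).Coprime (Fintype.card F ^ 2) := by
        rw [h.card, ← pow_mul]; exact (Nat.coprime_two_right.2 ho).pow_right _
      have c2 : (O'.card + 1).Coprime (Fintype.card F ^ 2 + 1) := by
        refine Nat.coprime_of_dvd fun p hp hp1 hp2 => hp.one_lt.ne' (Nat.dvd_one.1 ?_)
        have := Nat.dvd_sub (hp1.mul_left 2) hp2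
        rwa [h2, show Fintype.card F ^ 2 + 2 - (Fintype.card F ^ 2 + 1) = 1 by omega] at this
      have h3 := Nat.le_of_dvd (by omega) ((c1.mul_right c2).dvd_of_dvd_mul_left hd)
      have h4 : Fintype.card F - 1 ≤ Fintype.card F := Nat.sub_le _ _
      have h5 : 3 * Fintype.card F ≤ Fintype.card F ^ 2 := by rw [sq]; exact Nat.mul_le_mul_right _ (by omega)
      omega
  -- a torus element
  by_cases htor : ∀ g ∈ H, g ^ 4 = 1
  · exfalso
    have hU2 : H ≤ unip h := fun g hg => unip_of_four h hm (htor g hg) (hle hg)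
    have hB := relIndex_le hfix hzα hz1 (MulAction.stabilizer (Cfsg.Sz F m) ∞') (fun c hc => by
      obtain ⟨a, b, e, hce⟩ := h.eq_of_fix_none hm ((MulAction.stabilizer (Cfsg.Sz F m) ∞').inv_mem hc)
      have h0 := hZ (sg m (e : F) * (e : F) ^ 2 * b0)
      rw [← conj_center h a b e b0, ← hce, inv_inv] at h0
      exact h0)
    have h1 := (H.subgroupOf (MulAction.stabilizer (Cfsg.Sz F m) ∞')).card_mul_index
    rw [card_stab_pt h hm ⟨none, rfl⟩, Nat.card_congr (Subgroup.subgroupOfEquivOfLe hle).toEquiv] at h1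
    have h2 : Nat.card H * (H.subgroupOf (MulAction.stabilizer (Cfsg.Sz F m) ∞')).index ≤ Fintype.card F ^ 2 * 2 :=
      Nat.mul_le_mul (h.card_unip ▸ Subgroup.card_le_of_le hU2) hB
    rw [h1] at h2
    have h3 : Fintype.card F - 1 ≤ 2 := Nat.le_of_mul_le_mul_left h2 (pow_pos Fintype.card_pos 2)
    obtain ⟨j, hj⟩ := hev
    omega
  push Not at htor
  obtain ⟨g, hg, hg4⟩ := htor
  obtain ⟨a, b, e, hge⟩ := h.eq_of_fix_none hm (hle hg)
  have he : e ≠ 1 := fun z => hg4 (by rw [hge, z, map_one, mul_one]; exact pow_four_of_mem h hm (h.uS_mem a b))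
  obtain ⟨c, d, hcd⟩ := borel_cases h hm (a := a) (b := b) he
  set k := uS h c d with hk
  have hgk : g = k * dS h e * k⁻¹ := by rw [← hcd, ← hge]; group
  have hT : ∀ f, k * dS h f * k⁻¹ ∈ H := fun f => by
    refine cen_le h hm hfix hg hg4 ?_
    rw [hgk, centralizer_conj, centralizer_dS h hm he]
    exact ⟨dS h f, ⟨f, rfl⟩, rfl⟩
  set H' := H.comap (MulAut.conj k).toMonoidHom with hH'
  have hT' : ∀ f, dS h f ∈ H' := hT
  have hZ' : ∀ v, uS h 0 v ∈ H' := fun v => by
    show k * uS h 0 v * k⁻¹ ∈ H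
    rw [hk, ← h.uS_center_comm, mul_inv_cancel_right]
    exact hZ v
  obtain ⟨a1, b1, ha1, hmem1⟩ : ∃ a1 b1, a1 ≠ 0 ∧ uS h a1 b1 ∈ H' := by
    by_contra hcon
    push Not at hcon
    have : V ≤ unipCenter h := by
      intro v hv
      obtain ⟨vH, vU⟩ := Subgroup.mem_inf.1 hv
      obtain ⟨a', b', hab⟩ : k⁻¹ * v * k ∈ unip h := mul_mem (mul_mem (inv_mem (h.uS_mem c d)) vU) (h.uS_mem c d)
      have ha' : a' = 0 := by
        by_contra ha'
        refine hcon a' b' ha' ?_
        show k * uS h a' b' * k⁻¹ ∈ H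
        rw [← hab, show k * (k⁻¹ * v * k) * k⁻¹ = v by group]
        exact vH
      refine ⟨b', ?_⟩
      rw [show v = k * (k⁻¹ * v * k) * k⁻¹ by group, hab, ha', hk, ← h.uS_center_comm, mul_inv_cancel_right]
    have h1 : Nat.card V ≤ Fintype.card F := by
      refine (Subgroup.card_le_of_le this).trans ?_
      rw [← Nat.card_eq_fintype_card]
      refine Nat.card_le_card_of_surjective (fun b : F => (⟨uS h 0 b, b, rfl⟩ : unipCenter h)) ?_
      rintro ⟨_, b, rfl⟩
      exact ⟨b, rfl⟩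
    nlinarith
  have hUle : ∀ a' b', uS h a' b' ∈ H' := by
    intro a' b'
    by_cases ha' : a' = 0
    · rw [ha']; exact hZ' b'
    obtain ⟨f, hf⟩ := h.sg_surjective (a' / a1)
    have hf0 : f ≠ 0 := fun z => by
      rw [z, sg_zero] at hf
      exact div_ne_zero ha' ha1 hf.symm
    have h2 : dS h (Units.mk0 f hf0) * uS h a1 b1 * (dS h (Units.mk0 f hf0))⁻¹ ∈ H' :=
      mul_mem (mul_mem (hT' _) hmem1) (inv_mem (hT' _))
    rw [h.dS_mul_uS, mul_inv_cancel_right, Units.val_mk0, hf, div_mul_cancel₀ _ ha1] at h2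
    set w := a' / a1 * f ^ 2 * b1
    have h3 := mul_mem (hZ' (b' - w)) h2
    rwa [h.uS_mul, zero_add, sg_zero, zero_mul, add_zero, sub_add_cancel] at h3
  refine le_antisymm hle fun x hx => ?_
  have hx' : k⁻¹ * x * k ∈ MulAction.stabilizer (Cfsg.Sz F m) ∞' := by
    have hkf : k ∈ MulAction.stabilizer (Cfsg.Sz F m) ∞' := h.uS_smul_none c d
    exact mul_mem (mul_mem (inv_mem hkf) hx) hkf
  obtain ⟨a', b', e', he'⟩ := h.eq_of_fix_none hm hx'
  have h4 : k⁻¹ * x * k ∈ H' := by rw [he']; exact mul_mem (hUle a' b') (hT' e')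
  have h5 : k * (k⁻¹ * x * k) * k⁻¹ ∈ H := h4
  rwa [show k * (k⁻¹ * x * k) * k⁻¹ = x by group] at h5

/-- A stabiliser of odd order is a split torus. -/
theorem odd_case {α : Ω} (hH1 : MulAction.stabilizer (Cfsg.Sz F m) α ≠ ⊥)
    (hno : ∀ g : (Cfsg.Sz F m), g • α = α → g ^ 2 = 1 → g = 1) :
    Nat.card (MulAction.stabilizer (Cfsg.Sz F m) α) = Fintype.card F - 1 := by
  classical
  haveI : Fintype (Cfsg.Sz F m) := Fintype.ofFinite _
  set H := MulAction.stabilizer (Cfsg.Sz F m) α with hH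
  obtain ⟨⟨g, hg⟩, hg1⟩ := Subgroup.ne_bot_iff_exists_ne_one.1 hH1
  have hg1 : g ≠ 1 := fun z => hg1 (Subtype.ext z)
  have h4 : ∀ x ∈ H, x ≠ 1 → x ^ 4 ≠ 1 := fun x hx hx1 z => by
    have h2 : x ^ 2 = 1 := hno _ (pow_mem hx 2) (by rw [← pow_mul]; exact z)
    exact hx1 (hno x hx h2)
  set cz : (Cfsg.Sz F m) → Subgroup (Cfsg.Sz F m) := fun x => Subgroup.centralizer ({x} : Set (Cfsg.Sz F m)) with hcz
  have hcle : ∀ x ∈ H, x ≠ 1 → cz x ≤ H := fun x hx hx1 => cen_le h hm hfix hx (h4 x hx hx1)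
  -- the classes inside `H`
  have hbig : ∀ x ∈ H, x ≠ 1 → ∃ S : Set H, S = conjSet ((cz x).subgroupOf H) ∧
      Nat.card S * Nat.card (cz x) = (Nat.card (cz x) - 1) * Nat.card H := by
    intro x hx hx1
    refine ⟨_, rfl, ?_⟩
    obtain ⟨-, heq, -, hpow⟩ := cen_odd h hm (h4 x hx hx1)
    have hTI : ∀ (g' : H) (c : H), c ∈ (cz x).subgroupOf H → c ≠ 1 → g' * c * g'⁻¹ ∈ (cz x).subgroupOf H →
        g' ∈ Subgroup.normalizer (((cz x).subgroupOf H : Subgroup H) : Set H) := by
      intro g' c hc hc1 hgc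
      have := ti_of_centralizer (cz x) heq (g' : (Cfsg.Sz F m)) (c : (Cfsg.Sz F m)) hc (fun z => hc1 (Subtype.ext z)) hgc
      rw [Subgroup.mem_normalizer_iff] at this ⊢
      exact fun y => this (y : (Cfsg.Sz F m))
    have hcount := card_conjSet ((cz x).subgroupOf H) hTI
    have hN : Subgroup.normalizer (((cz x).subgroupOf H : Subgroup H) : Set H) = (cz x).subgroupOf H := by
      refine le_antisymm (fun w hw => ?_) Subgroup.le_normalizer
      have hxc : (⟨x, hx⟩ : H) ∈ (cz x).subgroupOf H := mem_centralizer_iff'.2 rfl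
      have hwN : (w : (Cfsg.Sz F m)) ∈ Subgroup.normalizer (cz x : Set (Cfsg.Sz F m)) :=
        ti_of_centralizer (cz x) heq (w : (Cfsg.Sz F m)) x (mem_centralizer_iff'.2 rfl) hx1
          ((Subgroup.mem_normalizer_iff.1 hw ⟨x, hx⟩).1 hxc)
      rw [Subgroup.mem_subgroupOf]
      have hodd : Odd (orderOf (w : (Cfsg.Sz F m))) := by
        rw [← Nat.not_even_iff_odd, even_iff_two_dvd]
        intro hd
        have h2 := orderOf_pow_orderOf_div (orderOf_pos (w : (Cfsg.Sz F m))).ne' hd
        have h3 := hno _ (H.pow_mem w.2 _) (h2 ▸ pow_orderOf_eq_one _)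
        rw [h3, orderOf_one] at h2
        omega
      obtain ⟨j, hj⟩ := exists_pow_eq_self_of_coprime (n := 4) (x := (w : (Cfsg.Sz F m)))
        ((Nat.coprime_two_left.2 hodd).pow_left 2)
      rw [← hj]
      exact pow_mem (hpow _ hwN) j
    rwa [hN, Nat.card_congr (Subgroup.subgroupOfEquivOfLe (hcle x hx hx1)).toEquiv] at hcount
  obtain ⟨S, hS, hSc⟩ := hbig g hg hg1
  obtain ⟨-, heqg, h3g, hpowg⟩ := cen_odd h hm (h4 g hg hg1)
  have hcover : ∀ x : H, x ≠ 1 → x ∈ S := by
    intro x hx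
    by_contra hxS
    have hx1 : (x : (Cfsg.Sz F m)) ≠ 1 := fun z => hx (Subtype.ext z)
    obtain ⟨S', hS', hS'c⟩ := hbig x x.2 hx1
    obtain ⟨-, heqx, h3x, -⟩ := cen_odd h hm (h4 x x.2 hx1)
    have hd : Disjoint S S' := by
      rw [Set.disjoint_left, hS, hS']
      rintro y ⟨u, c, hc, hc1, hu⟩ ⟨u', c', hc', hc1', hu'⟩
      refine hxS ?_
      rw [hS]
      have hc1g : (c : (Cfsg.Sz F m)) ≠ 1 := fun z => hc1 (Subtype.ext z)
      have hc1x : (c' : (Cfsg.Sz F m)) ≠ 1 := fun z => hc1' (Subtype.ext z)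
      set v : H := u⁻¹ * u' with hv
      have hrel : c = v * c' * v⁻¹ := by
        rw [hv, show u⁻¹ * u' * c' * (u⁻¹ * u')⁻¹ = u⁻¹ * (u' * c' * u'⁻¹) * u by group, hu', ← hu]; group
      refine ⟨v⁻¹, v * x * v⁻¹, ?_, fun z => hx (conj_eq_one_iff.1 z), by group⟩
      rw [Subgroup.mem_subgroupOf]
      show (v : (Cfsg.Sz F m)) * x * (v : (Cfsg.Sz F m))⁻¹ ∈ cz g
      have e1 : cz g = (cz x).map (MulAut.conj (v : (Cfsg.Sz F m))).toMonoidHom := by
        have := heqg (c : (Cfsg.Sz F m)) hc hc1g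
        simp only [hcz]
        rw [← this, show (c : (Cfsg.Sz F m)) = (v : (Cfsg.Sz F m)) * c' * (v : (Cfsg.Sz F m))⁻¹ from congrArg Subtype.val hrel, centralizer_conj,
          heqx (c' : (Cfsg.Sz F m)) hc' hc1x]
      rw [e1]
      exact ⟨x, mem_centralizer_iff'.2 rfl, rfl⟩
    have h1 : ∀ (T : Set H) (n : ℕ), 3 ≤ n → Nat.card T * n = (n - 1) * Nat.card H →
        Nat.card H < 2 * Nat.card T := by
      intro T n hn hT
      have h3 : 0 < Nat.card H := Nat.card_pos
      obtain ⟨j, rfl⟩ : ∃ j, n = j + 3 := ⟨n - 3, by omega⟩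
      rw [show j + 3 - 1 = j + 2 by omega] at hT
      nlinarith
    have s1 := h1 S _ h3g hSc
    have s2 := h1 S' _ h3x hS'c
    have s3 : Nat.card S + Nat.card S' ≤ Nat.card H := by
      rw [Nat.card_coe_set_eq, Nat.card_coe_set_eq, ← Set.ncard_union_eq hd, ← Set.ncard_univ H]
      exact Set.ncard_le_ncard (Set.subset_univ _)
    omega
  have hHc : Nat.card H = Nat.card (cz g) := by
    have hu : (Set.univ : Set H) = insert 1 S := Set.ext fun x => ⟨fun _ => or_iff_not_imp_left.2 (hcover x), fun _ => trivial⟩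
    have h1S : (1 : H) ∉ S := by
      rw [hS]; rintro ⟨u, c, -, hc1, hu⟩; exact hc1 (conj_eq_one_iff.1 hu)
    have hc := congrArg Set.ncard hu
    rw [Set.ncard_univ, Set.ncard_insert_of_notMem h1S, ← Nat.card_coe_set_eq] at hc
    have h3 := hSc
    change 3 ≤ Nat.card (cz g) at h3g
    have hle := Nat.le_of_dvd Nat.card_pos (Subgroup.card_dvd_of_le (hcle g hg hg1))
    zify [(show 1 ≤ Nat.card (cz g) by omega)] at h3 hc ⊢
    linear_combination h3 + (Nat.card (cz g) : ℤ) * hc
  rw [hHc]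
  by_cases hf : HasFix g
  · obtain ⟨k, hk | ⟨e, he, hk⟩⟩ := fix_cases h hm hf
    · refine absurd ?_ (h4 g hg hg1)
      have h5 := pow_four_of_mem h hm hk
      have h6 := conj_pow (a := k⁻¹) (b := g) (i := 4)
      rw [inv_inv] at h6
      rw [h6] at h5
      simpa [mul_assoc] using congrArg (fun w => k * w * k⁻¹) h5
    show Nat.card (Subgroup.centralizer ({g} : Set (Cfsg.Sz F m))) = _
    rw [show g = k * dS h e * k⁻¹ by rw [← hk]; group, centralizer_conj, centralizer_dS h hm he,
      Subgroup.card_map_of_injective (MulAut.conj k).injective, card_range_dS h hm]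
  · exfalso
    have hE := inE_of_not_fix h hm hf
    have hle := relIndex_le hfix hg hg1 (Subgroup.normalizer (cz g : Set (Cfsg.Sz F m))) (fun c hc => by
      refine hcle g hg hg1 ?_
      have := (Subgroup.mem_normalizer_iff.1 ((Subgroup.normalizer (cz g : Set (Cfsg.Sz F m))).inv_mem hc) g).1
        (mem_centralizer_iff'.2 rfl)
      rwa [inv_inv] at this)
    have h1 := ((MulAction.stabilizer (Cfsg.Sz F m) α).subgroupOf (Subgroup.normalizer (cz g : Set (Cfsg.Sz F m)))).card_mul_index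
    have h2 : Nat.card ((MulAction.stabilizer (Cfsg.Sz F m) α).subgroupOf (Subgroup.normalizer (cz g : Set (Cfsg.Sz F m)))) ≤ Nat.card H :=
      Nat.card_le_card_of_injective (fun x => (⟨(x.1 : (Cfsg.Sz F m)), x.2⟩ : H)) (fun a b e => by
        apply Subtype.ext; apply Subtype.ext; exact congrArg (fun z : H => (z : (Cfsg.Sz F m))) e)
    rw [hHc] at h2
    have h3 : Nat.card ((MulAction.stabilizer (Cfsg.Sz F m) α).subgroupOf (Subgroup.normalizer (cz g : Set (Cfsg.Sz F m)))) *
        ((MulAction.stabilizer (Cfsg.Sz F m) α).subgroupOf (Subgroup.normalizer (cz g : Set (Cfsg.Sz F m)))).index ≤ Nat.card (cz g) * 2 :=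
      Nat.mul_le_mul h2 hle
    rw [h1, show Nat.card (Subgroup.normalizer (cz g : Set (Cfsg.Sz F m))) = 4 * Nat.card (cz g) from card_normalizer h hm hE] at h3
    have : 0 < Nat.card (cz g) := Nat.card_pos
    omega

theorem fixity_two (htr : MulAction.IsPretransitive (Cfsg.Sz F m) Ω) (hfaith : FaithfulSMul (Cfsg.Sz F m) Ω)
    (hex : ∃ g : (Cfsg.Sz F m), g ≠ 1 ∧ Nat.card (MulAction.fixedBy Ω g) = 2) :
    (Nat.card Ω = Fintype.card F ^ 2 + 1 ∧ MulAction.IsMultiplyPretransitive (Cfsg.Sz F m) Ω 2) ∨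
    (Nat.card Ω = Fintype.card F ^ 2 * (Fintype.card F ^ 2 + 1) ∧
      ∀ α : Ω, Nat.card (MulAction.stabilizer (Cfsg.Sz F m) α) = Fintype.card F - 1) := by
  classical
  obtain ⟨g0, hg0, hg0f⟩ := hex
  haveI := h.isSimple hm
  obtain ⟨hq, hev⟩ := card_facts h hm
  have hprop : ∀ α : Ω, MulAction.stabilizer (Cfsg.Sz F m) α ≠ ⊤ ∧ MulAction.stabilizer (Cfsg.Sz F m) α ≠ ⊥ := by
    haveI : Nonempty (MulAction.fixedBy Ω g0) := (Nat.card_pos_iff.1 (by omega)).1
    intro α
    constructor
    · intro htop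
      obtain ⟨k, hk⟩ := exists_ne (1 : (Cfsg.Sz F m))
      refine hk (FaithfulSMul.eq_of_smul_eq_smul (α := Ω) fun β => ?_)
      obtain ⟨u, rfl⟩ := htr.exists_smul_eq α β
      have : ∀ x : (Cfsg.Sz F m), x • α = α := fun x => by
        have := (Subgroup.eq_top_iff' _).1 htop x; exact this
      rw [← mul_smul, one_smul, this, this]
    · intro hbot
      obtain ⟨⟨β, hβ⟩⟩ := ‹Nonempty (MulAction.fixedBy Ω g0)›
      obtain ⟨u, rfl⟩ := htr.exists_smul_eq α β
      rw [MulAction.mem_fixedBy] at hβ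
      have : u⁻¹ * g0 * u ∈ MulAction.stabilizer (Cfsg.Sz F m) α := by
        rw [MulAction.mem_stabilizer_iff, mul_smul, mul_smul, hβ, inv_smul_smul]
      rw [hbot, Subgroup.mem_bot] at this
      exact hg0 (by simpa [mul_assoc] using congrArg (fun w => u * w * u⁻¹) this)
  by_cases hinv : ∃ (α : Ω) (z : (Cfsg.Sz F m)), z • α = α ∧ z ^ 2 = 1 ∧ z ≠ 1
  · obtain ⟨α, z, hzα, hz2, hz1⟩ := hinv
    have hzz : z * z = 1 := by rw [← sq, hz2]
    obtain ⟨p, hp⟩ := exists_fix_of_four h hm (show z ^ 4 = 1 by simp [pow_succ, mul_assoc, hzz]) hz1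
    obtain ⟨k, hk⟩ := exists_to h hm p
    have hst := even_case h hm hfix (α := k⁻¹ • α) (hprop _).1 (z := k⁻¹ * z * k)
      (by rw [mul_smul, mul_smul, smul_inv_smul, hzα])
      (by rw [sq]; calc k⁻¹ * z * k * (k⁻¹ * z * k) = k⁻¹ * (z * z) * k := by group
            _ = 1 := by rw [hzz, mul_one, inv_mul_cancel])
      (fun e => hz1 (by simpa [mul_assoc] using congrArg (fun w => k * w * k⁻¹) e))
      (by rw [mul_smul, mul_smul, hk, hp, ← hk, inv_smul_smul])
    set β := k⁻¹ • α with hβ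
    have hN : Subgroup.normalizer (unip h : Set (Cfsg.Sz F m)) = MulAction.stabilizer (Cfsg.Sz F m) β := by
      rw [hst, h.normalizer_unip hm, opt_none]
    refine Or.inl ⟨?_, ?_⟩
    · have h1 := MulAction.index_stabilizer_of_transitive (Cfsg.Sz F m) β
      rw [← hN, h.index_normalizer hm] at h1
      exact h1.symm
    · rw [MulAction.is_two_pretransitive_iff]
      intro a b c d hab hcd
      have key : ∀ a b c : Ω, a ≠ b → a ≠ c → ∃ x : (Cfsg.Sz F m), x • a = a ∧ x • b = c := by
        intro a b c hab hac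
        obtain ⟨u, rfl⟩ := htr.exists_smul_eq β a
        obtain ⟨x, rfl⟩ := htr.exists_smul_eq β b
        obtain ⟨y, rfl⟩ := htr.exists_smul_eq β c
        have hx : u⁻¹ * x ∉ Subgroup.normalizer (unip h : Set (Cfsg.Sz F m)) := fun z => hab (by
          rw [hN, MulAction.mem_stabilizer_iff, mul_smul, inv_smul_eq_iff] at z; exact z.symm)
        have hy : u⁻¹ * y ∉ Subgroup.normalizer (unip h : Set (Cfsg.Sz F m)) := fun z => hac (by
          rw [hN, MulAction.mem_stabilizer_iff, mul_smul, inv_smul_eq_iff] at z; exact z.symm)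
        obtain ⟨s, hs, -⟩ := h.unique_unip hm hx hy
        simp only [hN, MulAction.mem_stabilizer_iff, mul_smul, inv_smul_eq_iff] at hs
        have hsb : (s : (Cfsg.Sz F m)) • β = β := by
          have : (s : (Cfsg.Sz F m)) ∈ MulAction.stabilizer (Cfsg.Sz F m) β := hN ▸ Subgroup.le_normalizer s.2
          exact this
        refine ⟨u * s * u⁻¹, by rw [mul_smul, mul_smul, inv_smul_smul, hsb], ?_⟩
        simp only [mul_smul]
        exact hs.symm
      obtain ⟨g1, hg1⟩ := htr.exists_smul_eq a c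
      have hne : c ≠ g1 • b := fun e => hab (MulAction.injective g1 (hg1.trans e))
      obtain ⟨g2, e1, e2⟩ := key c (g1 • b) d hne hcd
      exact ⟨g2 * g1, by rw [mul_smul, hg1, e1], by rw [mul_smul, e2]⟩
  · push Not at hinv
    have hcard : ∀ α : Ω, Nat.card (MulAction.stabilizer (Cfsg.Sz F m) α) = Fintype.card F - 1 := fun α =>
      odd_case h hm hfix (hprop α).2 fun g hg hg2 => hinv α g hg hg2
    refine Or.inr ⟨?_, hcard⟩
    haveI : Nonempty (MulAction.fixedBy Ω g0) := (Nat.card_pos_iff.1 (by omega)).1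
    obtain ⟨⟨α, -⟩⟩ := ‹Nonempty (MulAction.fixedBy Ω g0)›
    have h1 := (MulAction.stabilizer (Cfsg.Sz F m) α).card_mul_index
    rw [hcard α, h.card_group hm, MulAction.index_stabilizer_of_transitive, mul_comm] at h1
    exact Nat.eq_of_mul_eq_mul_right (by omega) h1

end

end Cfsg.Agent.Lib.SzFixity
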